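/-
Squares of odd degrees against a subgroup of odd index.

* `oddIrr`, `oddSum`, `oddKer`
* `oddSum_le`: the sum of the squares of the odd degrees does not grow on a subgroup of odd index
* `res_irr`, `res_inj`, `res_surj`: in the case of equality restriction is a bijection
* `oddSum_mul_card`: the sum for a group with a normal 2-subgroup of odd index
-/
import Cfsg.Agent.Lib.CharApp.Clifford
import Cfsg.Agent.Lib.RealBlock.Central
import Cfsg.Agent.Lib.TwoClassChar.Basic
import Cfsg.Agent.Lib.Ito.Basic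
import Cfsg.Agent.Lib.Char.Integral
import Cfsg.Agent.Lib.Char.Linear

set_option autoImplicit false
set_option linter.style.haveILetI false

namespace Cfsg.Agent.OddDegreeSum

open Cfsg Cfsg.Agent

universe u

variable {G : Type u} [Group G]

local notation "deg" => charDegree

theorem apply_one (χ : IrrCharacter G) : (χ : G → ℂ) 1 = (deg (χ : G → ℂ) : ℂ) := by
  obtain ⟨n, ρ, -, hρ⟩ := χ.2
  simp [charDegree, ← hρ, Representation.char_one]

section
variable [Finite G]

/-- The irreducible characters of odd degree. -/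
noncomputable def oddIrr (G : Type u) [Group G] [Finite G] : Finset (IrrCharacter G) :=
  haveI := Fintype.ofFinite (IrrCharacter G)
  Finset.univ.filter fun χ => ¬ 2 ∣ deg (χ : G → ℂ)

theorem mem_oddIrr {χ : IrrCharacter G} : χ ∈ oddIrr G ↔ ¬ 2 ∣ deg (χ : G → ℂ) := by
  simp [oddIrr]

/-- The sum of the squares of the odd degrees. -/
noncomputable def oddSum (G : Type u) [Group G] [Finite G] : ℕ :=
  ∑ χ ∈ oddIrr G, deg (χ : G → ℂ) ^ 2

/-- The common kernel of the characters of odd degree. -/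
noncomputable def oddKer (G : Type u) [Group G] [Finite G] : Subgroup G where
  carrier := {g | ∀ χ ∈ oddIrr G, (χ : G → ℂ) g = (χ : G → ℂ) 1}
  one_mem' := fun _ _ => rfl
  mul_mem' := fun {a b} ha hb χ hχ => (TwoClassChar.ker_mul χ.2 (ha χ hχ) b).trans (hb χ hχ)
  inv_mem' := fun {a} ha χ hχ => by
    have h := TwoClassChar.ker_mul χ.2 (ha χ hχ) a⁻¹
    rw [mul_inv_cancel] at h
    exact h.symm

theorem mem_oddKer {g : G} : g ∈ oddKer G ↔ ∀ χ ∈ oddIrr G, (χ : G → ℂ) g = (χ : G → ℂ) 1 :=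
  Iff.rfl

instance oddKer_normal : (oddKer G).Normal :=
  ⟨fun g hg x χ hχ => (Char.IsIrrCharacter.isClassFunction χ.2 g x).trans (hg χ hχ)⟩

end

/-- Multiplicities in the restriction. -/
theorem exists_mult [Fintype G] (H : Subgroup G) [Fintype H] [Fintype (IrrCharacter H)] (χ : IrrCharacter G) :
    ∃ c : IrrCharacter H → ℕ,
      (∀ η : IrrCharacter H, classInner (fun h : H => (χ : G → ℂ) h) (η : H → ℂ) = c η) ∧
        deg (χ : G → ℂ) = ∑ η, c η * deg (η : H → ℂ) := by
  obtain ⟨c, hc, hin⟩ :=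
    Char.IsCharacter.decompose (Char.IsCharacter.restrict (Char.IsIrrCharacter.isCharacter χ.2) H)
  refine ⟨c, hin, ?_⟩
  have h1 := congrFun hc 1
  simp only [OneMemClass.coe_one, Finset.sum_apply, Pi.smul_apply, smul_eq_mul, apply_one] at h1
  exact_mod_cast h1

/-- Multiplicities in the induced character. -/
theorem exists_mult_ind [Fintype G] (H : Subgroup G) [Fintype H] [Fintype (IrrCharacter G)] (η : IrrCharacter H) :
    ∃ c : IrrCharacter G → ℕ,
      (∀ χ : IrrCharacter G, classInner (fun h : H => (χ : G → ℂ) h) (η : H → ℂ) = c χ) ∧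
        H.index * deg (η : H → ℂ) = ∑ χ, c χ * deg (χ : G → ℂ) := by
  obtain ⟨c, hc, hin⟩ :=
    Char.IsCharacter.decompose (Char.IsCharacter.indFun (H := H) (Char.IsIrrCharacter.isCharacter η.2))
  refine ⟨c, fun χ => ?_, ?_⟩
  · have h := hin χ
    rw [Char.frobenius_reciprocity H _ (Char.IsIrrCharacter.isClassFunction χ.2)] at h
    exact CharApp.classInner_comm_of_nat h
  · have h1 := congrFun hc 1
    rw [Char.indFun_one_apply] at h1
    simp only [Finset.sum_apply, Pi.smul_apply, smul_eq_mul, apply_one] at h1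
    exact_mod_cast h1

/-- An irreducible of odd degree of a subgroup of odd index lies under one of odd degree. -/
theorem exists_odd_over [Fintype G] (H : Subgroup G) [Fintype H] (hidx : ¬ 2 ∣ H.index) (η : IrrCharacter H)
    (hη : η ∈ oddIrr H) :
    ∃ χ ∈ oddIrr G, classInner (fun h : H => (χ : G → ℂ) h) (η : H → ℂ) ≠ 0 := by
  have := Fintype.ofFinite (IrrCharacter G)
  obtain ⟨c, hc, hsum⟩ := exists_mult_ind H η
  by_contra hno
  push Not at hno
  refine Nat.Prime.not_dvd_mul Nat.prime_two hidx (mem_oddIrr.mp hη) ?_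
  rw [hsum]
  refine Finset.dvd_sum fun χ _ => ?_
  by_cases h2 : 2 ∣ deg (χ : G → ℂ)
  · exact h2.mul_left _
  · have h0 := hno χ (mem_oddIrr.mpr h2)
    rw [hc χ, Nat.cast_eq_zero] at h0
    simp [h0]

/-- Distinct constituents fit into the degree. -/
theorem sum_constituents_le [Fintype G] (H : Subgroup G) [Fintype H] (χ : IrrCharacter G)
    (s : Finset (IrrCharacter H))
    (hs : ∀ η ∈ s, classInner (fun h : H => (χ : G → ℂ) h) (η : H → ℂ) ≠ 0) :
    ∑ η ∈ s, deg (η : H → ℂ) ≤ deg (χ : G → ℂ) := by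
  have := Fintype.ofFinite (IrrCharacter H)
  obtain ⟨c, hc, hsum⟩ := exists_mult H χ
  rw [hsum]
  refine le_trans (Finset.sum_le_sum fun η hη => ?_) (Finset.sum_le_sum_of_subset (Finset.subset_univ s))
  exact Nat.le_mul_of_pos_left _ (Nat.pos_of_ne_zero fun h0 => hs η hη (by rw [hc η, h0, Nat.cast_zero]))

section inequality

variable [Fintype G] (H : Subgroup G) [Fintype H] (hidx : ¬ 2 ∣ H.index)
include hidx

theorem oddSum_core :
    ∃ f : IrrCharacter H → IrrCharacter G,
      (∀ η ∈ oddIrr H, f η ∈ oddIrr G ∧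
        classInner (fun h : H => (f η : G → ℂ) h) (η : H → ℂ) ≠ 0 ∧ deg (η : H → ℂ) ≤ deg (f η : G → ℂ)) ∧
      oddSum H ≤ oddSum G ∧
      (oddSum G ≤ oddSum H →
        (∀ η ∈ oddIrr H, (fun h : H => (f η : G → ℂ) h) = (η : H → ℂ)) ∧
        ∀ χ ∈ oddIrr G, ∃ η ∈ oddIrr H, f η = χ) := by
  classical
  have h0 : ∀ η : IrrCharacter H, ∃ χ : IrrCharacter G, η ∈ oddIrr H →
      χ ∈ oddIrr G ∧ classInner (fun h : H => (χ : G → ℂ) h) (η : H → ℂ) ≠ 0 := by
    intro η
    by_cases hη : η ∈ oddIrr H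
    · obtain ⟨χ, h1, h2⟩ := exists_odd_over H hidx η hη
      exact ⟨χ, fun _ => ⟨h1, h2⟩⟩
    · exact ⟨⟨_, Char.isIrrCharacter_one⟩, fun h => absurd h hη⟩
  choose f hf using h0
  have hle : ∀ η ∈ oddIrr H, deg (η : H → ℂ) ≤ deg (f η : G → ℂ) := fun η hη => by
    simpa using sum_constituents_le H (f η) {η} (by simpa using (hf η hη).2)
  have hfib : ∀ χ ∈ oddIrr G, ∑ η ∈ (oddIrr H).filter (fun η => f η = χ), deg (η : H → ℂ) * deg (f η : G → ℂ)
      ≤ deg (χ : G → ℂ) ^ 2 := by
    intro χ _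
    rw [Finset.sum_congr rfl (g := fun η : IrrCharacter H => deg (η : H → ℂ) * deg (χ : G → ℂ))
      (fun η hη => by rw [(Finset.mem_filter.mp hη).2]), ← Finset.sum_mul, sq]
    refine Nat.mul_le_mul_right _ (sum_constituents_le H χ _ fun η hη => ?_)
    obtain ⟨h1, rfl⟩ := Finset.mem_filter.mp hη
    exact (hf η h1).2
  have hmid : ∑ η ∈ oddIrr H, deg (η : H → ℂ) * deg (f η : G → ℂ) ≤ oddSum G := by
    rw [← Finset.sum_fiberwise_of_maps_to (fun η hη => (hf η hη).1)]
    exact Finset.sum_le_sum hfib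
  have hleft : oddSum H ≤ ∑ η ∈ oddIrr H, deg (η : H → ℂ) * deg (f η : G → ℂ) :=
    Finset.sum_le_sum fun η hη => by rw [sq]; exact Nat.mul_le_mul_left _ (hle η hη)
  refine ⟨f, fun η hη => ⟨(hf η hη).1, (hf η hη).2, hle η hη⟩, hleft.trans hmid, fun heq => ⟨fun η hη => ?_, fun χ hχ => ?_⟩⟩
  · have h1 := (Finset.sum_eq_sum_iff_of_le (s := oddIrr H)
      (f := fun η : IrrCharacter H => deg (η : H → ℂ) * deg (η : H → ℂ))
      (g := fun η => deg (η : H → ℂ) * deg (f η : G → ℂ))
      fun η hη => Nat.mul_le_mul_left _ (hle η hη)).mp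
        (le_antisymm (Finset.sum_le_sum fun η hη => Nat.mul_le_mul_left _ (hle η hη))
          (le_trans hmid (le_trans heq (le_of_eq (Finset.sum_congr rfl fun η _ => sq _))))) η hη
    have h2 := Nat.eq_of_mul_eq_mul_left (RealBlock.charDegree_pos η.2) h1
    exact CharApp.eq_of_constituent_of_degree
      (Char.IsCharacter.restrict (Char.IsIrrCharacter.isCharacter (f η).2) H) η.2 (hf η hη).2
      (by rw [OneMemClass.coe_one, apply_one]) (by rw [apply_one, h2])
  · by_contra hno
    push Not at hno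
    have hlt : ∑ η ∈ oddIrr H, deg (η : H → ℂ) * deg (f η : G → ℂ) < oddSum G := by
      rw [← Finset.sum_fiberwise_of_maps_to (fun η hη => (hf η hη).1)]
      refine Finset.sum_lt_sum hfib ⟨χ, hχ, ?_⟩
      rw [Finset.filter_false_of_mem fun η hη => hno η hη, Finset.sum_empty]
      exact pow_pos (RealBlock.charDegree_pos χ.2) 2
    omega

theorem oddSum_le : oddSum H ≤ oddSum G := by
  obtain ⟨f, _, h, _⟩ := oddSum_core H hidx
  exact h

variable (heq : oddSum G ≤ oddSum H)
include heq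

theorem res_irr {χ : IrrCharacter G} (hχ : χ ∈ oddIrr G) :
    ∃ η ∈ oddIrr H, (fun h : H => (χ : G → ℂ) h) = (η : H → ℂ) := by
  obtain ⟨f, _, _, h⟩ := oddSum_core H hidx
  obtain ⟨η, hη, rfl⟩ := (h heq).2 χ hχ
  exact ⟨η, hη, (h heq).1 η hη⟩

theorem res_inj {χ χ' : IrrCharacter G} (hχ : χ ∈ oddIrr G) (hχ' : χ' ∈ oddIrr G)
    (h : ∀ x : H, (χ : G → ℂ) x = (χ' : G → ℂ) x) : χ = χ' := by
  obtain ⟨f, _, _, hf⟩ := oddSum_core H hidx
  obtain ⟨η, hη, rfl⟩ := (hf heq).2 χ hχ
  obtain ⟨η', hη', rfl⟩ := (hf heq).2 χ' hχ'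
  congr 1
  exact Subtype.ext (((hf heq).1 η hη).symm.trans ((funext h).trans ((hf heq).1 η' hη')))

theorem res_surj {η : IrrCharacter H} (hη : η ∈ oddIrr H) :
    ∃ χ ∈ oddIrr G, ∀ x : H, (χ : G → ℂ) x = (η : H → ℂ) x := by
  obtain ⟨f, hf, _, h⟩ := oddSum_core H hidx
  exact ⟨f η, (hf η hη).1, congrFun ((h heq).1 η hη)⟩

end inequality

section twoNormal

variable {X : Type u} [Group X] [Fintype X] (T : Subgroup X) [T.Normal]

/-- Characters of odd degree are those trivial on the derived group of a normal 2-subgroup of odd index. -/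
theorem mem_oddIrr_iff (hT : IsPGroup 2 T) (hidx : ¬ 2 ∣ T.index) (η : IrrCharacter X) :
    η ∈ oddIrr X ↔ CharApp.TrivOn ⁅T, T⁆ (η : X → ℂ) := by
  classical
  have := Fintype.ofFinite T
  have := Fintype.ofFinite (⁅T, T⁆ : Subgroup X)
  have := Fintype.ofFinite (IrrCharacter T)
  rw [mem_oddIrr]
  constructor
  · intro hη
    have hDT : ⁅T, T⁆ ≤ T := Subgroup.commutator_le_self T
    obtain ⟨c, hc, hsum⟩ := exists_mult T η
    obtain ⟨θ, hθ⟩ : ∃ θ : IrrCharacter T, ¬ 2 ∣ c θ * deg (θ : T → ℂ) := by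
      by_contra hno
      push Not at hno
      exact hη (hsum ▸ Finset.dvd_sum fun θ _ => hno θ)
    have hθ2 : ¬ 2 ∣ deg (θ : T → ℂ) := fun h => hθ (h.mul_left _)
    have hθ1 : deg (θ : T → ℂ) = 1 := by
      obtain ⟨k, hk⟩ := IsPGroup.iff_card.mp hT
      obtain ⟨n, -, hn, hd⟩ := Char.IsIrrCharacter.degree_dvd_card θ.2
      have e : deg (θ : T → ℂ) = n := by simp [charDegree, hn]
      rw [hk] at hd
      obtain ⟨i, _, hi⟩ := (Nat.dvd_prime_pow Nat.prime_two).mp hd
      rcases Nat.eq_zero_or_pos i with h | h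
      · rw [e, hi, h, pow_zero]
      · exact absurd (e ▸ hi ▸ dvd_pow_self 2 h.ne') hθ2
    obtain ⟨l, hl⟩ := Char.exists_hom_of_degree_one (Char.IsIrrCharacter.isCharacter θ.2)
      (by rw [apply_one, hθ1, Nat.cast_one])
    refine CharApp.trivOn_of_constituent_one _ η.2 ?_
    let i : (⁅T, T⁆ : Subgroup X) →* T := Subgroup.inclusion hDT
    have hone : ∀ d : (⁅T, T⁆ : Subgroup X), (θ : T → ℂ) (i d) = 1 := by
      intro d
      rw [← hl]
      have hmem : i d ∈ commutator T := by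
        obtain ⟨y, hy, hyd⟩ : (d : X) ∈ (commutator T).map T.subtype := by
          rw [Subgroup.map_subtype_commutator]; exact d.2
        exact (show i d = y from Subtype.ext hyd.symm) ▸ hy
      have h1 := Abelianization.commutator_subset_ker l.toHomUnits hmem
      rw [MonoidHom.mem_ker] at h1
      simpa using congrArg Units.val h1
    obtain ⟨cT, hcT, hcin⟩ :=
      Char.IsCharacter.decompose (Char.IsCharacter.restrict (Char.IsIrrCharacter.isCharacter η.2) T)
    have hrw : (fun d : (⁅T, T⁆ : Subgroup X) => (η : X → ℂ) d) =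
        ∑ φ : IrrCharacter T, (cT φ : ℂ) • fun d => (φ : T → ℂ) (i d) := by
      funext d
      have := congrFun hcT (i d)
      simpa [Finset.sum_apply, i] using this
    choose m hm using fun φ : IrrCharacter T => Char.IsCharacter.classInner_nat
      (Char.IsCharacter.comp_hom (Char.IsIrrCharacter.isCharacter φ.2) i)
      (Char.isCharacter_one (G := (⁅T, T⁆ : Subgroup X)))
    rw [hrw, Char.classInner_sum_left]
    intro h0
    have h1 : ((∑ φ, cT φ * m φ : ℕ) : ℂ) = 0 := by
      push_cast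
      rw [← h0]
      exact Finset.sum_congr rfl fun φ _ => by rw [Char.classInner_smul_left, ← hm φ]
    have h2 := Finset.sum_eq_zero_iff.mp (Nat.cast_eq_zero.mp h1) θ (Finset.mem_univ _)
    rcases mul_eq_zero.mp h2 with h3 | h3
    · refine hθ ?_
      have : c θ = cT θ := by exact_mod_cast (hc θ).symm.trans (hcin θ)
      rw [this, h3, zero_mul]
      exact dvd_zero 2
    · have h4 := hm θ
      rw [h3, Nat.cast_zero, show (fun h => (θ : T → ℂ) (i h)) = (1 : (⁅T, T⁆ : Subgroup X) → ℂ) from funext hone,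
        Char.classInner_irr_self Char.isIrrCharacter_one] at h4
      exact one_ne_zero h4
  · intro ht h2
    obtain ⟨n, ρ, hirr, hρ⟩ := η.2
    haveI := hirr
    have hid : ∀ d ∈ ⁅T, T⁆, ρ d = 1 := fun d hd => by
      rw [Module.End.one_eq_id, ← Char.character_eq_finrank_iff, hρ, ht ⟨d, hd⟩, ← hρ, Representation.char_one]
    let ρ' : Representation ℂ (X ⧸ ⁅T, T⁆) (Fin n → ℂ) :=
      QuotientGroup.lift ⁅T, T⁆ ρ fun s hs => MonoidHom.mem_ker.mpr (hid s hs)
    have hirr' : ρ'.IsIrreducible := by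
      have := CharApp.nontrivial_of_irr ρ
      exact CharApp.isIrreducible_of_forall_invariant ρ' fun W hW =>
        CharApp.eq_bot_or_top_of_invariant ρ W fun g v hv => hW (g : X ⧸ ⁅T, T⁆) v hv
    haveI : (T.map (QuotientGroup.mk' ⁅T, T⁆)).Normal :=
      Subgroup.Normal.map inferInstance _ (QuotientGroup.mk'_surjective _)
    have hdvd := Ito.finrank_dvd_index ρ' (T.map (QuotientGroup.mk' ⁅T, T⁆)) (by
      rintro _ ⟨a, ha, rfl⟩ _ ⟨b, hb, rfl⟩
      rw [← map_mul, ← map_mul]
      refine (QuotientGroup.mk'_eq_mk' ⁅T, T⁆).mpr ⟨(a * b)⁻¹ * (b * a), ?_, by group⟩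
      have := Subgroup.commutator_mem_commutator (T.inv_mem hb) (T.inv_mem ha)
      convert this using 1
      rw [commutatorElement_def]; group)
    have hdeg : deg (η : X → ℂ) = Module.finrank ℂ (Fin n → ℂ) := by
      simp [charDegree, ← hρ, Representation.char_one]
    exact hidx ((hdeg ▸ h2).trans (hdvd.trans (Subgroup.index_map_dvd T (QuotientGroup.mk'_surjective _))))

/-- The sum for a group with a normal 2-subgroup of odd index. -/
theorem oddSum_mul_card (hT : IsPGroup 2 T) (hidx : ¬ 2 ∣ T.index) :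
    Nat.card (⁅T, T⁆ : Subgroup X) * oddSum X = Nat.card X := by
  classical
  have := Fintype.ofFinite (IrrCharacter X)
  have := Fintype.ofFinite (⁅T, T⁆ : Subgroup X)
  rw [← (⁅T, T⁆ : Subgroup X).card_mul_index]
  congr 1
  have h := congrFun (CharApp.indFun_one_eq_sum ⁅T, T⁆) 1
  rw [Char.indFun_one_apply, Pi.one_apply, mul_one] at h
  simp only [Finset.sum_apply, Pi.smul_apply, smul_eq_mul, apply_one] at h
  have h1 : (⁅T, T⁆ : Subgroup X).index = ∑ β ∈ Finset.univ.filter (fun β : IrrCharacter X =>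
      CharApp.TrivOn ⁅T, T⁆ (β : X → ℂ)), deg (β : X → ℂ) * deg (β : X → ℂ) := by exact_mod_cast h
  rw [h1, oddSum]
  exact Finset.sum_congr (Finset.ext fun β => by simp [mem_oddIrr_iff T hT hidx]) fun β _ => sq _

/-- The common kernel lies in the derived group of the normal 2-subgroup. -/
theorem oddKer_le (hT : IsPGroup 2 T) (hidx : ¬ 2 ∣ T.index) : oddKer X ≤ ⁅T, T⁆ := by
  classical
  intro x hx
  by_contra hxD
  have := Fintype.ofFinite (IrrCharacter X)
  have h := congrFun (CharApp.indFun_one_eq_sum ⁅T, T⁆) x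
  rw [CliffordChar.indFun_not_mem _ _ hxD] at h
  have h1 := congrFun (CharApp.indFun_one_eq_sum ⁅T, T⁆) 1
  rw [Char.indFun_one_apply, Pi.one_apply, mul_one] at h1
  refine (Nat.cast_ne_zero (R := ℂ)).mpr (⁅T, T⁆ : Subgroup X).index_ne_zero_of_finite (h1.trans ?_)
  rw [h]
  simp only [Finset.sum_apply, Pi.smul_apply]
  refine Finset.sum_congr rfl fun β hβ => ?_
  rw [hx β ((mem_oddIrr_iff T hT hidx β).mpr (Finset.mem_filter.mp hβ).2)]

end twoNormal

end Cfsg.Agent.OddDegreeSum
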