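/-
The case of equality: the Sylow normalizer supplements the common kernel of the odd degree characters.
-/
import Cfsg.Agent.Lib.OddDegreeSum.Basic
import Cfsg.Agent.Lib.CharExtend.Basic
import Cfsg.Agent.Lib.CharApp.CoprimeFixed
import Cfsg.Agent.Lib.Transfer.Tate
import Cfsg.Agent.S0205

set_option autoImplicit false
set_option linter.style.haveILetI false

namespace Cfsg.Agent.OddDegreeSum

open Cfsg Cfsg.Agent Subgroup

universe u

local notation "deg" => charDegree

variable {G : Type u} [Group G] [Fintype G]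

/-- Over an odd degree character of a normal subgroup of odd prime index only odd degrees occur. -/
theorem odd_of_over (L : Subgroup G) [L.Normal] [Fintype L] (hr : L.index.Prime) (hr2 : ¬ 2 ∣ L.index)
    (θ : IrrCharacter L) (hθ : θ ∈ oddIrr L) (χ : IrrCharacter G)
    (h : classInner (fun n : L => (χ : G → ℂ) n) (θ : L → ℂ) ≠ 0) : χ ∈ oddIrr G := by
  classical
  rw [mem_oddIrr] at hθ ⊢
  have hle : L ≤ CharApp.inertia L (θ : L → ℂ) :=
    CharApp.le_inertia L (Char.IsIrrCharacter.isClassFunction θ.2)
  rcases hr.eq_one_or_self_of_dvd _ (index_dvd_of_le hle) with h1 | h1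
  · -- invariant: an extension times a linear character
    rw [index_eq_one] at h1
    have hinv : ∀ (g : G) (x : L), (θ : L → ℂ) ⟨g * x * g⁻¹, (inferInstance : L.Normal).conj_mem x x.2 g⟩ = (θ : L → ℂ) x := by
      intro g x
      have hg : CliffordChar.conjFun L g⁻¹ (θ : L → ℂ) = θ :=
        (CharApp.mem_inertia L).mp (h1 ▸ mem_top g⁻¹)
      have := congrFun hg x
      rw [CliffordChar.conjFun_apply] at this
      convert this using 2
      simp
    obtain ⟨n, ρ, hirr, hρ⟩ := θ.2
    haveI := hirr
    haveI : Fact L.index.Prime := ⟨hr⟩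
    have hcyc : IsCyclic (G ⧸ L) := isCyclic_of_prime_card (p := L.index) L.index_eq_card.symm
    obtain ⟨R, hR⟩ := CharExtend.hom_of_cyclic hcyc ρ (fun g x => by rw [hρ]; exact hinv g x)
    obtain ⟨ξ, hξ, hξres⟩ := CharExtend.extends_of_hom ρ R hR
    have hres : (fun x : L => ξ x) = (θ : L → ℂ) := funext fun x => (hξres x).trans (congrFun hρ x)
    obtain ⟨β, hβ, ht, hprod⟩ := CharApp.gallagher_exhaustive L hξ (hres ▸ θ.2) χ.2 (hres ▸ h)
    have hβ1 : β 1 = 1 := CharApp.degree_one_of_trivOn L (fun x y => by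
      haveI := hcyc
      let _ : CommGroup (G ⧸ L) := IsCyclic.commGroup
      rw [← QuotientGroup.eq_one_iff]
      simp only [QuotientGroup.mk_mul, QuotientGroup.mk_inv]
      rw [mul_comm (x : G ⧸ L) (y : G ⧸ L)]; group) hβ ht
    have e : deg (χ : G → ℂ) = deg (θ : L → ℂ) := by
      have h1 := congrFun hprod 1
      have h2 := congrFun hres 1
      simp only [OneMemClass.coe_one] at h2
      rw [Pi.mul_apply, hβ1, mul_one, h2, apply_one, apply_one] at h1
      exact_mod_cast h1
    rwa [e]
  · -- not invariant: the induced character is irreducible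
    have hI : CharApp.inertia L (θ : L → ℂ) = L := by
      refine (eq_of_le_of_card_ge hle ?_).symm
      have e1 := (CharApp.inertia L (θ : L → ℂ)).card_mul_index
      have e2 := L.card_mul_index
      rw [h1, ← e2] at e1
      exact le_of_eq (Nat.eq_of_mul_eq_mul_right hr.pos e1)
    have hnorm : classInner (indFun L (θ : L → ℂ)) (indFun L (θ : L → ℂ)) = 1 := by
      rw [Char.frobenius_reciprocity L _ (Char.indFun_isClassFunction L _)]
      have e : (fun x : L => indFun L (θ : L → ℂ) (x : G)) =
          (Nat.card L : ℂ)⁻¹ • CliffordChar.orbitSum L (θ : L → ℂ) :=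
        funext fun x => CliffordChar.indFun_coe L _ x
      rw [e, ← Char.classInner_conj_symm, Char.classInner_smul_left, CharApp.classInner_orbitSum_self L θ.2,
        hI, inv_mul_cancel₀ (Nat.cast_ne_zero.mpr Nat.card_pos.ne'), map_one]
    have hirr := (Char.isIrrCharacter_iff_norm_one
      (Char.IsCharacter.indFun (H := L) (Char.IsIrrCharacter.isCharacter θ.2))).mpr hnorm
    have hne : classInner (indFun L (θ : L → ℂ)) (χ : G → ℂ) ≠ 0 := by
      rw [Char.frobenius_reciprocity L _ (Char.IsIrrCharacter.isClassFunction χ.2), ← Char.classInner_conj_symm]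
      exact fun h0 => h ((map_eq_zero _).mp h0)
    have heq : indFun L (θ : L → ℂ) = (χ : G → ℂ) := by
      by_contra hc
      exact hne (Char.classInner_irr_of_ne hirr χ.2 hc)
    have h1' := congrFun heq 1
    rw [Char.indFun_one_apply, apply_one, apply_one] at h1'
    have e : L.index * deg (θ : L → ℂ) = deg (χ : G → ℂ) := by exact_mod_cast h1'
    exact e ▸ Nat.Prime.not_dvd_mul Nat.prime_two hr2 hθ

/-- The sum over the normal subgroup of odd prime index. -/
theorem index_mul_oddSum_le (L : Subgroup G) [L.Normal] [Fintype L] (hr : L.index.Prime) (hr2 : ¬ 2 ∣ L.index) :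
    L.index * oddSum L ≤ oddSum G := by
  classical
  have := Fintype.ofFinite (IrrCharacter G)
  choose c hc hsum using fun θ : IrrCharacter L => exists_mult_ind L θ
  have hθ : ∀ θ ∈ oddIrr L, L.index * deg (θ : L → ℂ) ^ 2 =
      ∑ χ ∈ oddIrr G, c θ χ * deg (θ : L → ℂ) * deg (χ : G → ℂ) := by
    intro θ hθ
    rw [sq, ← mul_assoc, hsum θ, Finset.sum_mul]
    symm
    refine (Finset.sum_subset (Finset.subset_univ (oddIrr G)) fun χ _ hχ => ?_).trans
      (Finset.sum_congr rfl fun χ _ => by ring)
    have h0 : c θ χ = 0 := by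
      by_contra h0
      exact hχ (odd_of_over L hr hr2 θ hθ χ (by rw [hc θ χ]; exact_mod_cast h0))
    simp [h0]
  rw [oddSum, Finset.mul_sum, Finset.sum_congr rfl hθ, Finset.sum_comm, oddSum]
  refine Finset.sum_le_sum fun χ _ => ?_
  rw [← Finset.sum_mul, sq]
  refine Nat.mul_le_mul_right _ ?_
  have := Fintype.ofFinite (IrrCharacter L)
  obtain ⟨d, hd, hdsum⟩ := exists_mult L χ
  rw [hdsum]
  refine le_trans (le_of_eq (Finset.sum_congr rfl fun θ _ => ?_)) (Finset.sum_le_sum_of_subset (Finset.subset_univ _))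
  have : c θ χ = d θ := by exact_mod_cast (hc θ χ).symm.trans (hd θ)
  rw [this]

/-- The common kernel of a normal subgroup of odd index lies in that of the group. -/
theorem map_oddKer_le (L : Subgroup G) [L.Normal] : (oddKer L).map L.subtype ≤ oddKer G := by
  classical
  rintro _ ⟨x, hx, rfl⟩ χ hχ
  have := Fintype.ofFinite L
  have := Fintype.ofFinite (IrrCharacter L)
  obtain ⟨c, hc, hin⟩ :=
    Char.IsCharacter.decompose (Char.IsCharacter.restrict (Char.IsIrrCharacter.isCharacter χ.2) L)
  have h1 := congrFun hc x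
  have h2 := congrFun hc 1
  simp only [OneMemClass.coe_one] at h2
  show (χ : G → ℂ) (x : G) = _
  rw [h1, h2]
  simp only [Finset.sum_apply, Pi.smul_apply, smul_eq_mul]
  refine Finset.sum_congr rfl fun θ _ => ?_
  by_cases h0 : c θ = 0
  · simp [h0]
  congr 1
  refine hx θ (mem_oddIrr.mpr fun h2θ => ?_)
  have hne : classInner (fun n : L => (χ : G → ℂ) n) (θ : L → ℂ) ≠ 0 := by
    rw [hin θ]; exact_mod_cast h0
  have hdeg := CharApp.restrict_degree L χ.2 θ.2 hne
  rw [hin θ, apply_one, apply_one] at hdeg
  have hn : deg (χ : G → ℂ) = c θ * (CharApp.inertia L (θ : L → ℂ)).index * deg (θ : L → ℂ) := by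
    exact_mod_cast hdeg
  exact mem_oddIrr.mp hχ (hn ▸ h2θ.mul_left _)

omit [Fintype G] in
/-- The order of the derived group of the Sylow subgroup, computed in an intermediate group. -/
theorem card_commutator_subgroupOf {H K : Subgroup G} (hHK : H ≤ K) :
    Nat.card (⁅H.subgroupOf K, H.subgroupOf K⁆ : Subgroup K) = Nat.card (⁅H, H⁆ : Subgroup G) := by
  rw [← card_map_of_injective K.subtype_injective, map_commutator, map_subgroupOf_eq_of_le hHK]

/-- The equality case. -/
theorem sup_oddKer : ∀ (n : ℕ) (G : Type u) [Group G] [Fintype G] (P : Sylow 2 G), Nat.card G = n →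
    oddSum G ≤ oddSum (normalizer ((P : Subgroup G) : Set G)) →
    normalizer ((P : Subgroup G) : Set G) ⊔ oddKer G = ⊤ := by
  classical
  intro n
  induction n using Nat.strong_induction_on with
  | _ n ih =>
  intro G _ _ P hn heq
  have hPN : (P : Subgroup G) ≤ normalizer ((P : Subgroup G) : Set G) := le_normalizer
  have hidx : ¬ 2 ∣ (normalizer ((P : Subgroup G) : Set G)).index :=
    fun h => P.not_dvd_index (h.trans (index_dvd_of_le hPN))
  set N := normalizer ((P : Subgroup G) : Set G) with hN
  have := Fintype.ofFinite N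
  let T : Subgroup N := (P : Subgroup G).subgroupOf N
  haveI hTn : T.Normal := normal_in_normalizer
  have hT2 : IsPGroup 2 T := P.2.of_equiv (subgroupOfEquivOfLe hPN).symm
  have hTidx : ¬ 2 ∣ T.index := by
    intro h
    refine P.not_dvd_index (h.trans ?_)
    rw [← relIndex_mul_index hPN]
    exact dvd_mul_right _ _
  by_cases hTtop : T = ⊤
  · -- self-normalizing
    have hlin : ∀ χ ∈ oddIrr G, (χ : G → ℂ) 1 = 1 := by
      intro χ hχ
      obtain ⟨η, hη, hres⟩ := res_irr N hidx heq hχ
      have h1 := congrFun hres 1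
      simp only [OneMemClass.coe_one] at h1
      rw [h1]
      obtain ⟨m, -, hm, hd⟩ := Char.IsIrrCharacter.degree_dvd_card η.2
      obtain ⟨k, hk⟩ := IsPGroup.iff_card.mp hT2
      rw [← card_top, ← hTtop, hk] at hd
      obtain ⟨i, -, hi⟩ := (Nat.dvd_prime_pow Nat.prime_two).mp hd
      rcases Nat.eq_zero_or_pos i with h | h
      · rw [hm, hi, h]; simp
      · refine absurd ?_ (mem_oddIrr.mp hη)
        have : deg (η : N → ℂ) = m := by simp [charDegree, hm]
        rw [this, hi]
        exact dvd_pow_self 2 h.ne'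
    have hcomm : commutator G ≤ oddKer G := by
      intro g hg χ hχ
      obtain ⟨l, hl⟩ := Char.exists_hom_of_degree_one (Char.IsIrrCharacter.isCharacter χ.2) (hlin χ hχ)
      have h1 := Abelianization.commutator_subset_ker l.toHomUnits hg
      rw [MonoidHom.mem_ker] at h1
      rw [← hl, map_one]
      simpa using congrArg Units.val h1
    by_contra hne
    set A := N ⊔ oddKer G with hA
    haveI : A.Normal := Normal.of_commutator_le G (hcomm.trans le_sup_right)
    obtain ⟨g, hg⟩ : ∃ g, g ∉ A := by
      by_contra hall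
      push Not at hall
      exact hne (eq_top_iff.mpr fun g _ => hall g)
    let _ : CommGroup (G ⧸ A) :=
      { (inferInstance : Group (G ⧸ A)) with
        mul_comm := fun a b => QuotientGroup.induction_on a fun x => QuotientGroup.induction_on b fun y => by
          rw [← QuotientGroup.mk_mul, ← QuotientGroup.mk_mul, QuotientGroup.eq]
          have := (hcomm.trans le_sup_right : commutator G ≤ A)
            (commutator_mem_commutator (mem_top y⁻¹) (mem_top x⁻¹))
          convert this using 1
          rw [commutatorElement_def]; group }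
    obtain ⟨φ, hφ⟩ := CommGroup.exists_apply_ne_one_of_hasEnoughRootsOfUnity (G ⧸ A) ℂ
      (a := (g : G ⧸ A)) (fun h => hg ((QuotientGroup.eq_one_iff g).mp h))
    let l : G →* ℂ := ((Units.coeHom ℂ).comp φ).comp (QuotientGroup.mk' A)
    have hlA : ∀ a ∈ A, l a = 1 := fun a ha => by
      show ((φ (a : G ⧸ A) : ℂˣ) : ℂ) = 1
      rw [(QuotientGroup.eq_one_iff a).mpr ha, map_one, Units.val_one]
    let χ : IrrCharacter G := ⟨l, Char.isIrrCharacter_of_hom l⟩
    let o : IrrCharacter G := ⟨_, Char.isIrrCharacter_one⟩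
    have ho : o ∈ oddIrr G := mem_oddIrr.mpr (by simp [o, charDegree])
    have hχ : χ ∈ oddIrr G := mem_oddIrr.mpr (by simp [χ, charDegree])
    have := res_inj N hidx heq hχ ho fun x => hlA x (le_sup_left (b := oddKer G) x.2)
    refine hφ (Units.ext ?_)
    exact congrFun (congrArg Subtype.val this) g
  · -- a normal subgroup of odd prime index
    have hQodd : Odd (Nat.card (N ⧸ T)) := by
      rw [← index_eq_card]
      exact Nat.not_even_iff_odd.mp fun h => hTidx (even_iff_two_dvd.mp h)
    haveI hQs : Group.IsSolvable (N ⧸ T) := Cfsg.Agent.S0205.result hQodd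
    have hQnt : Nontrivial (N ⧸ T) :=
      QuotientGroup.nontrivial_iff.mpr hTtop
    obtain ⟨q, hq⟩ : ∃ q : Abelianization (N ⧸ T), q ≠ 1 := by
      by_contra hno
      push Not at hno
      refine (Group.IsSolvable.commutator_lt_top_of_nontrivial (G := N ⧸ T)).ne (eq_top_iff.mpr fun x _ => ?_)
      exact (QuotientGroup.eq_one_iff x).mp (hno (Abelianization.of x))
    let A := Abelianization (N ⧸ T)
    have hA1 : Nat.card A ≠ 1 := fun h => by
      haveI := (Nat.card_eq_one_iff_unique.mp h).1
      exact hq (Subsingleton.elim _ _)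
    obtain ⟨r, hr, hrd⟩ := Nat.exists_prime_and_dvd hA1
    haveI : Fact r.Prime := ⟨hr⟩
    have hr2 : ¬ 2 ∣ r := by
      intro h2
      obtain rfl := (Nat.prime_dvd_prime_iff_eq Nat.prime_two hr).mp h2
      have : Nat.card A ∣ Nat.card (N ⧸ T) := card_quotient_dvd_card _
      exact (Nat.not_even_iff_odd.mpr hQodd) (even_iff_two_dvd.mpr (hrd.trans this))
    obtain ⟨a, ha⟩ := exists_prime_orderOf_dvd_card' r hrd
    have hrange : (powMonoidHom r : A →* A).range ≠ ⊤ := by
      intro htop
      have hsurj := MonoidHom.range_eq_top.mp htop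
      have hinj := Finite.injective_iff_surjective.mpr hsurj
      have : a = 1 := hinj (by simp [← ha, pow_orderOf_eq_one])
      rw [this, orderOf_one] at ha
      exact hr.one_lt.ne ha
    obtain ⟨b, hb⟩ : ∃ b : A, b ∉ (powMonoidHom r : A →* A).range := by
      by_contra hall
      push Not at hall
      exact hrange (eq_top_iff.mpr fun g _ => hall g)
    obtain ⟨φ, hφ⟩ := CommGroup.exists_apply_ne_one_of_hasEnoughRootsOfUnity
      (A ⧸ (powMonoidHom r : A →* A).range) ℂ (a := (b : A ⧸ _)) (fun h => hb ((QuotientGroup.eq_one_iff b).mp h))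
    let lu : N →* ℂˣ := ((φ.comp (QuotientGroup.mk' _)).comp Abelianization.of).comp (QuotientGroup.mk' T)
    have hlr : ∀ x, lu x ^ r = 1 := fun x => by
      show φ (QuotientGroup.mk (Abelianization.of (x : N ⧸ T))) ^ r = 1
      rw [← map_pow, ← QuotientGroup.mk_pow,
        (QuotientGroup.eq_one_iff (Abelianization.of (x : N ⧸ T) ^ r)).mpr (MonoidHom.mem_range.mpr ⟨_, rfl⟩), map_one]
    have hlT : ∀ x ∈ T, lu x = 1 := fun x hx => by
      show φ (QuotientGroup.mk (Abelianization.of (x : N ⧸ T))) = 1
      rw [(QuotientGroup.eq_one_iff x).mpr hx, map_one, QuotientGroup.mk_one, map_one]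
    obtain ⟨x₀, hx₀⟩ : ∃ x₀, lu x₀ ≠ 1 := by
      obtain ⟨w, hw⟩ := QuotientGroup.mk'_surjective (commutator (N ⧸ T)) b
      obtain ⟨x, hx⟩ := QuotientGroup.mk'_surjective T w
      refine ⟨x, ?_⟩
      show φ (QuotientGroup.mk (Abelianization.of (x : N ⧸ T))) ≠ 1
      rw [show (x : N ⧸ T) = w from hx, show Abelianization.of w = b from hw]
      exact hφ
    let η : IrrCharacter N := ⟨_, Char.isIrrCharacter_of_hom ((Units.coeHom ℂ).comp lu)⟩
    have hη : η ∈ oddIrr N := mem_oddIrr.mpr (by simp [η, charDegree])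
    obtain ⟨χ, hχ, hres⟩ := res_surj N hidx heq hη
    obtain ⟨L0, hL0⟩ := Char.exists_hom_of_degree_one (Char.IsIrrCharacter.isCharacter χ.2) (by
      have := hres 1
      simpa [η] using this)
    let lam : G →* ℂˣ := L0.toHomUnits
    have hlam : ∀ x : N, lam (x : G) = lu x := fun x => Units.ext (by
      show L0 (x : G) = _
      rw [congrFun hL0 (x : G), hres x]; rfl)
    have hlamr : ∀ g, lam g ^ r = 1 := by
      let χr : IrrCharacter G := ⟨_, Char.isIrrCharacter_of_hom ((Units.coeHom ℂ).comp ((powMonoidHom r).comp lam))⟩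
      let o : IrrCharacter G := ⟨_, Char.isIrrCharacter_one⟩
      have ho : o ∈ oddIrr G := mem_oddIrr.mpr (by simp [o, charDegree])
      have hχr : χr ∈ oddIrr G := mem_oddIrr.mpr (by simp [χr, charDegree])
      have := res_inj N hidx heq hχr ho fun x => by
        show ((lam (x : G) ^ r : ℂˣ) : ℂ) = 1
        rw [hlam, hlr, Units.val_one]
      intro g
      exact Units.ext (congrFun (congrArg Subtype.val this) g)
    have hcard : ∀ {H : Type u} [Group H] [Finite H] (f : H →* ℂˣ), (∀ x, f x ^ r = 1) → (∃ x, f x ≠ 1) →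
        f.ker.index = r := by
      intro H _ _ f hf ⟨x, hx⟩
      rw [index_ker]
      haveI : NeZero r := ⟨hr.ne_zero⟩
      refine Nat.dvd_antisymm ?_ ?_
      · rw [← HasEnoughRootsOfUnity.natCard_rootsOfUnity ℂ r]
        exact card_dvd_of_le (by
          rintro _ ⟨y, rfl⟩
          exact (mem_rootsOfUnity r _).mpr (hf y))
      · have : orderOf (f x) = r := orderOf_eq_prime (hf x) hx
        rw [← this]
        have h := orderOf_dvd_natCard (⟨f x, ⟨x, rfl⟩⟩ : f.range)
        rwa [← Subgroup.orderOf_coe] at h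
    have hLi : lam.ker.index = r := hcard lam hlamr ⟨(x₀ : G), by rw [hlam]; exact hx₀⟩
    set L := lam.ker with hL
    have := Fintype.ofFinite L
    have hPL : (P : Subgroup G) ≤ L := fun p hp => by
      rw [hL, MonoidHom.mem_ker, show p = ((⟨p, hPN hp⟩ : N) : G) from rfl, hlam]
      exact hlT _ hp
    have hNL : L.subgroupOf N = lu.ker := by
      ext x
      simp [mem_subgroupOf, hL, MonoidHom.mem_ker, hlam]
    have hrelN : (L.subgroupOf N).index = r := hNL ▸ hcard lu hlr ⟨x₀, hx₀⟩
    have hsup : N ⊔ L = ⊤ := by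
      rcases hr.eq_one_or_self_of_dvd _ (hLi ▸ index_dvd_of_le (le_sup_right : L ≤ N ⊔ L)) with h1 | h1
      · exact index_eq_one.mp h1
      · exfalso
        refine hx₀ ?_
        have e : L = N ⊔ L := by
          refine eq_of_le_of_card_ge le_sup_right (le_of_eq ?_)
          have e1 := (N ⊔ L).card_mul_index
          have e2 := L.card_mul_index
          rw [h1, ← e2, hLi] at e1
          exact Nat.eq_of_mul_eq_mul_right hr.pos e1
        have hx : (x₀ : G) ∈ L := e ▸ le_sup_left (b := L) x₀.2
        rw [hL, MonoidHom.mem_ker, hlam] at hx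
        exact hx
    let PL : Sylow 2 L := P.subtype hPL
    have hNPL : normalizer ((PL : Subgroup L) : Set L) = N.subgroupOf L := by
      rw [Sylow.coe_subtype, ← subgroupOf_normalizer_eq hPL]
    have := Fintype.ofFinite (normalizer ((PL : Subgroup L) : Set L))
    have hPLN : (PL : Subgroup L) ≤ normalizer ((PL : Subgroup L) : Set L) := le_normalizer
    haveI : ((PL : Subgroup L).subgroupOf (normalizer ((PL : Subgroup L) : Set L))).Normal := normal_in_normalizer
    have hPLidx : ¬ 2 ∣ ((PL : Subgroup L).subgroupOf (normalizer ((PL : Subgroup L) : Set L))).index := by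
      intro h
      refine PL.not_dvd_index (h.trans ?_)
      rw [← relIndex_mul_index hPLN]
      exact dvd_mul_right _ _
    have h1 := oddSum_mul_card T hT2 hTidx
    have h2 := oddSum_mul_card ((PL : Subgroup L).subgroupOf (normalizer ((PL : Subgroup L) : Set L)))
      (PL.2.of_equiv (subgroupOfEquivOfLe hPLN).symm) hPLidx
    rw [card_commutator_subgroupOf hPN] at h1
    rw [card_commutator_subgroupOf hPLN] at h2
    have hcc : Nat.card (⁅(PL : Subgroup L), (PL : Subgroup L)⁆ : Subgroup L) =
        Nat.card (⁅(P : Subgroup G), (P : Subgroup G)⁆ : Subgroup G) := by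
      rw [Sylow.coe_subtype, card_commutator_subgroupOf hPL]
    have hcardN : Nat.card (normalizer ((PL : Subgroup L) : Set L)) * r = Nat.card N := by
      rw [hNPL, show Nat.card (N.subgroupOf L) = Nat.card (L.subgroupOf N) from ?_, ← hrelN, card_mul_index]
      rw [← card_map_of_injective L.subtype_injective, ← card_map_of_injective N.subtype_injective,
        subgroupOf_map_subtype, subgroupOf_map_subtype, inf_comm]
    have hLr : L.index.Prime := hLi ▸ hr
    have hle : oddSum L ≤ oddSum (normalizer ((PL : Subgroup L) : Set L)) := by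
      refine Nat.le_of_mul_le_mul_left (le_trans (index_mul_oddSum_le L hLr (hLi ▸ hr2)) (heq.trans (le_of_eq ?_))) hLr.pos
      rw [hcc] at h2
      refine Nat.eq_of_mul_eq_mul_left (Nat.card_pos (α := (⁅(P : Subgroup G), (P : Subgroup G)⁆ : Subgroup G))) ?_
      rw [h1, mul_left_comm, h2, hLi, mul_comm, hcardN]
    have hlt : Nat.card L < n := by
      rw [← hn, ← L.card_mul_index, hLi]
      exact lt_mul_of_one_lt_right Nat.card_pos hr.one_lt
    have hind := ih _ hlt L PL rfl hle
    rw [eq_top_iff, ← hsup]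
    refine sup_le le_sup_left ?_
    rw [← L.range_subtype, MonoidHom.range_eq_map, ← hind, Subgroup.map_sup, hNPL, subgroupOf_map_subtype]
    exact sup_le (inf_le_left.trans le_sup_left) ((map_oddKer_le L).trans le_sup_right)

end Cfsg.Agent.OddDegreeSum
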