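/-
A normal complement of the Sylow 2-normalizer, and the equality of the odd degree sums.
-/
import Cfsg.Agent.Lib.OddDegreeSum.Kernel
import Cfsg.Agent.Lib.Cores.Frattini
import Cfsg.Agent.Lib.Char.Eigen
import Cfsg.Agent.S0081

set_option autoImplicit false
set_option linter.style.haveILetI false

namespace Cfsg.Agent.OddDegreeSum

open Cfsg Cfsg.Agent Subgroup
open scoped ComplexConjugate

universe u

local notation "deg" => charDegree

variable {G : Type u} [Group G] [Fintype G] (P : Sylow 2 G)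

/-- An odd degree character is trivial on a normal subgroup on which `P` fixes only the identity. -/
theorem trivOn_of_fixed_trivial (K : Subgroup G) [K.Normal] (hK : K ⊓ normalizer ((P : Subgroup G) : Set G) = ⊥)
    (χ : IrrCharacter G) (hχ : χ ∈ oddIrr G) : CharApp.TrivOn K (χ : G → ℂ) := by
  classical
  have := Fintype.ofFinite K
  by_cases hne : classInner (fun n : K => (χ : G → ℂ) n) 1 ≠ 0
  · exact CharApp.trivOn_of_constituent_one K χ.2 hne
  exfalso
  push Not at hne
  -- the sum over K vanishes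
  have hsum : ∑ k : K, (χ : G → ℂ) k = 0 := by
    have h := congrArg (fun z : ℂ => (Nat.card K : ℂ) * z) hne
    simp only [Char.card_mul_classInner, Pi.one_apply, map_one, mul_one, mul_zero] at h
    exact h
  letI : MulAction (P : Subgroup G) K :=
    { smul := fun p k => ⟨(p : G) * k * (p : G)⁻¹, (inferInstance : K.Normal).conj_mem k k.2 p⟩
      one_smul := fun k => Subtype.ext (by show (((1 : (P : Subgroup G)) : G)) * k * _ = _; simp)
      mul_smul := fun p q k => Subtype.ext (by
        show (((p * q : (P : Subgroup G)) : G)) * k * ((p * q : (P : Subgroup G)) : G)⁻¹ =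
          (p : G) * ((q : G) * k * (q : G)⁻¹) * (p : G)⁻¹
        push_cast; group) }
  let Fint := integralClosure ℤ ℂ
  have hint : ∀ g : G, (χ : G → ℂ) g ∈ Fint :=
    fun g => Char.IsCharacter.isIntegral (Char.IsIrrCharacter.isCharacter χ.2) g
  -- all orbits but that of 1 have even length
  have hfix : ∀ k : K, (∀ p : (P : Subgroup G), p • k = k) → k = 1 := by
    intro k hk
    have hmem : (k : G) ∈ K ⊓ normalizer ((P : Subgroup G) : Set G) := by
      refine ⟨k.2, mem_normalizer_iff.mpr fun p => ?_⟩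
      have key : ∀ p : G, p ∈ (P : Subgroup G) → (k : G) * p * (k : G)⁻¹ = p := by
        intro p hp
        have e : p * (k : G) * p⁻¹ = k := congrArg Subtype.val (hk ⟨p, hp⟩)
        calc (k : G) * p * (k : G)⁻¹ = p * k * p⁻¹ * p * (k : G)⁻¹ := by rw [e]
          _ = p := by group
      constructor
      · intro hp; rw [key p hp]; exact hp
      · intro hp
        have h2 := key _ hp
        have e : (k : G) * p * (k : G)⁻¹ = p := by
          have := congrArg (fun z => (k : G)⁻¹ * z * k) h2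
          simpa [mul_assoc] using this
        rwa [e] at hp
    rw [hK, mem_bot] at hmem
    exact Subtype.ext hmem
  have horb : ∀ k : K, ∃ z ∈ Fint, ∑ x ∈ Finset.univ.filter (fun x => x ∈ MulAction.orbit (P : Subgroup G) k),
      (χ : G → ℂ) (x : K) = if k = 1 then (χ : G → ℂ) 1 else 2 * z := by
    intro k
    by_cases hk : k = 1
    · refine ⟨0, zero_mem _, ?_⟩
      subst hk
      rw [if_pos rfl, Finset.sum_eq_single (1 : K)]
      · simp
      · intro x hx hx1
        obtain ⟨p, hp⟩ := MulAction.mem_orbit_iff.mp (Finset.mem_filter.mp hx).2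
        refine absurd ?_ hx1
        rw [← hp]
        exact Subtype.ext (by show (p : G) * ((1 : K) : G) * (p : G)⁻¹ = _; simp)
      · simp [MulAction.mem_orbit_self]
    · obtain ⟨n, hn⟩ := P.2.card_orbit k
      have hconst : ∀ x ∈ Finset.univ.filter (fun x => x ∈ MulAction.orbit (P : Subgroup G) k),
          (χ : G → ℂ) (x : K) = (χ : G → ℂ) (k : K) := by
        intro x hx
        obtain ⟨p, hp⟩ := MulAction.mem_orbit_iff.mp (Finset.mem_filter.mp hx).2
        rw [← hp]
        exact Char.IsIrrCharacter.isClassFunction χ.2 k p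
      rcases Nat.eq_zero_or_pos n with h0 | h0
      · exfalso
        refine hk (hfix k fun p => ?_)
        rw [h0, pow_zero] at hn
        exact Subtype.ext_iff.mp ((Nat.card_eq_one_iff_unique.mp hn).1.elim ⟨_, MulAction.mem_orbit k p⟩
          ⟨k, MulAction.mem_orbit_self k⟩)
      · refine ⟨((2 ^ (n - 1) : ℕ) : ℂ) * (χ : G → ℂ) (k : K), mul_mem (natCast_mem Fint _) (hint _), ?_⟩
        rw [if_neg hk, Finset.sum_congr rfl hconst, Finset.sum_const, ← Fintype.card_subtype,
          ← Nat.card_eq_fintype_card, show Nat.card {x : K // x ∈ MulAction.orbit (P : Subgroup G) k} = 2 ^ n from hn,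
          nsmul_eq_mul, ← mul_assoc, ← Nat.cast_ofNat (R := ℂ) (n := 2), ← Nat.cast_mul, ← pow_succ',
          Nat.sub_add_cancel h0]
  let Ω := MulAction.orbitRel.Quotient (P : Subgroup G) K
  have := Fintype.ofFinite Ω
  choose z hzm hz using horb
  have hsplit : ∑ k : K, (χ : G → ℂ) k = ∑ ω : Ω, ∑ x ∈ Finset.univ.filter
      (fun x => x ∈ MulAction.orbit (P : Subgroup G) (Quotient.out ω : K)), (χ : G → ℂ) (x : K) := by
    rw [← Finset.sum_fiberwise Finset.univ (fun x : K => (Quotient.mk'' x : Ω))]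
    refine Finset.sum_congr rfl fun ω _ => Finset.sum_congr (Finset.filter_congr fun x _ => ?_) fun _ _ => rfl
    constructor
    · intro h
      subst h
      exact MulAction.orbitRel_apply.mp (Setoid.symm' _ (Quotient.mk_out x))
    · intro h
      rw [← Quotient.out_eq' ω]
      exact Quotient.sound' (MulAction.orbitRel_apply.mpr h)
  have hout : ∀ ω : Ω, (Quotient.out ω : K) = 1 ↔ ω = Quotient.mk'' 1 := by
    intro ω
    constructor
    · intro h; rw [← Quotient.out_eq' ω, h]
    · rintro rfl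
      obtain ⟨p, hp⟩ := MulAction.mem_orbit_iff.mp (MulAction.orbitRel_apply.mp
        (Quotient.mk_out (s := MulAction.orbitRel (P : Subgroup G) K) (1 : K)))
      exact hp.symm.trans (Subtype.ext (by show (p : G) * ((1 : K) : G) * (p : G)⁻¹ = _; simp))
  have htot : ∃ w ∈ Fint, ∑ k : K, (χ : G → ℂ) k = (χ : G → ℂ) 1 + 2 * w := by
    refine ⟨∑ ω ∈ Finset.univ.erase (Quotient.mk'' 1 : Ω), z (Quotient.out ω), sum_mem fun ω _ => hzm _, ?_⟩
    rw [hsplit, ← Finset.add_sum_erase _ _ (Finset.mem_univ (Quotient.mk'' 1 : Ω)), Finset.mul_sum, hz,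
      if_pos ((hout _).mpr rfl)]
    congr 1
    refine Finset.sum_congr rfl fun ω hω => ?_
    rw [hz, if_neg fun h => (Finset.mem_erase.mp hω).1 ((hout ω).mp h)]
  obtain ⟨w, hwm, hw⟩ := htot
  rw [hsum, apply_one] at hw
  refine mem_oddIrr.mp hχ (Char.nat_dvd_of_isIntegral_div (by norm_num : (2 : ℕ) ≠ 0) ?_)
  have e : (deg (χ : G → ℂ) : ℂ) / ((2 : ℕ) : ℂ) = -w := by
    push_cast
    linear_combination -(1 / 2 : ℂ) * hw
  rw [e]
  exact (IsIntegral.neg hwm)

/-- Equality gives a normal complement. -/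
theorem exists_complement (heq : oddSum G ≤ oddSum (normalizer ((P : Subgroup G) : Set G))) :
    ∃ K : Subgroup G, K.Normal ∧ K ⊓ normalizer ((P : Subgroup G) : Set G) = ⊥ ∧
      K ⊔ normalizer ((P : Subgroup G) : Set G) = ⊤ := by
  classical
  have hsup := sup_oddKer _ G P rfl heq
  have hPN : (P : Subgroup G) ≤ normalizer ((P : Subgroup G) : Set G) := le_normalizer
  have hidx : ¬ 2 ∣ (normalizer ((P : Subgroup G) : Set G)).index :=
    fun h => P.not_dvd_index (h.trans (index_dvd_of_le hPN))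
  set N := normalizer ((P : Subgroup G) : Set G) with hN
  have := Fintype.ofFinite N
  haveI hTn : ((P : Subgroup G).subgroupOf N).Normal := normal_in_normalizer
  have hTidx : ¬ 2 ∣ ((P : Subgroup G).subgroupOf N).index := by
    intro h
    refine P.not_dvd_index (h.trans ?_)
    rw [← relIndex_mul_index hPN]
    exact dvd_mul_right _ _
  have hker := oddKer_le ((P : Subgroup G).subgroupOf N) (P.2.of_equiv (subgroupOfEquivOfLe hPN).symm) hTidx
  set K0 := oddKer G with hK0
  have hNK : K0 ⊓ N ≤ ⁅(P : Subgroup G), (P : Subgroup G)⁆ := by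
    rintro x ⟨hx, hxN⟩
    have hmem : (⟨x, hxN⟩ : N) ∈ oddKer N := by
      intro η hη
      obtain ⟨χ, hχ, hres⟩ := res_surj N hidx heq hη
      rw [← hres, ← hres]
      exact hx χ hχ
    have := mem_map_of_mem N.subtype (hker hmem)
    rwa [map_commutator, map_subgroupOf_eq_of_le hPN] at this
  haveI : Fact (Nat.Prime 2) := ⟨Nat.prime_two⟩
  haveI : Group.IsNilpotent (P : Subgroup G) := P.2.isNilpotent
  have hle : K0 ⊓ (P : Subgroup G) ≤ (frattini (P : Subgroup G)).map (P : Subgroup G).subtype := by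
    refine (inf_le_inf_left _ hPN).trans (hNK.trans ?_)
    rw [← map_subtype_commutator]
    exact Subgroup.map_mono (Cores.commutator_le_frattini (G := (P : Subgroup G)))
  obtain ⟨Q, R, hRn, hRQ⟩ := Cfsg.Agent.S0081.result P K0 hle
  have hRidx : ∃ j, R.index = 2 ^ j := by
    obtain ⟨j, hj⟩ := IsPGroup.iff_card.mp Q.2
    exact ⟨j, hRQ.symm.index_eq_card.trans hj⟩
  have hRodd : ¬ 2 ∣ Nat.card R := by
    intro h
    refine Q.not_dvd_index ?_
    rwa [hRQ.index_eq_card]
  -- R consists of all elements of odd order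
  have hRmem : ∀ x : K0, x ∈ R ↔ ¬ 2 ∣ orderOf x := by
    intro x
    constructor
    · intro hx h
      exact hRodd (h.trans (orderOf_dvd_natCard R hx))
    · intro hx
      obtain ⟨j, hj⟩ := hRidx
      have h1 : orderOf (x : K0 ⧸ R) ∣ 2 ^ j := by
        rw [← hj, index_eq_card]; exact orderOf_dvd_natCard (x : K0 ⧸ R)
      have h2 : orderOf (x : K0 ⧸ R) ∣ orderOf x := orderOf_map_dvd (QuotientGroup.mk' R) x
      obtain ⟨i, -, hi⟩ := (Nat.dvd_prime_pow Nat.prime_two).mp h1
      rcases Nat.eq_zero_or_pos i with h0 | h0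
      · rw [h0, pow_zero, orderOf_eq_one_iff, QuotientGroup.eq_one_iff] at hi
        exact hi
      · exact absurd ((hi ▸ dvd_pow_self 2 h0.ne').trans h2) hx
  refine ⟨R.map K0.subtype, ⟨?_⟩, ?_, ?_⟩
  · rintro _ ⟨x, hx, rfl⟩ g
    let y : K0 := ⟨g * x * g⁻¹, (inferInstance : K0.Normal).conj_mem x x.2 g⟩
    have ho : orderOf y = orderOf x := by
      rw [← Subgroup.orderOf_coe, ← Subgroup.orderOf_coe x]
      exact MulEquiv.orderOf_eq (MulAut.conj g) (x : G)
    refine ⟨y, (hRmem _).mpr ?_, rfl⟩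
    rw [ho]
    exact (hRmem x).mp hx
  · rw [eq_bot_iff]
    rintro _ ⟨⟨x, hx, rfl⟩, hxN⟩
    have hxP : (x : G) ∈ (P : Subgroup G) := commutator_le_self _ (hNK ⟨x.2, hxN⟩)
    obtain ⟨k, hk⟩ := IsPGroup.iff_orderOf.mp P.2 ⟨_, hxP⟩
    rw [orderOf_mk, Subgroup.orderOf_coe] at hk
    have hodd := (hRmem x).mp hx
    rcases Nat.eq_zero_or_pos k with h0 | h0
    · rw [h0, pow_zero, orderOf_eq_one_iff] at hk
      rw [mem_bot, hk]; simp
    · exact absurd (hk ▸ dvd_pow_self 2 h0.ne') hodd
  · rw [eq_top_iff, ← hsup]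
    refine sup_le le_sup_right ?_
    set W := (R.map K0.subtype ⊔ N).subgroupOf K0 with hW
    suffices h : W = ⊤ by
      intro x hx
      exact mem_subgroupOf.mp (show (⟨x, hx⟩ : K0) ∈ W from h ▸ mem_top _)
    have h1 : R ≤ W := fun x hx => mem_subgroupOf.mpr (le_sup_left (b := N) (mem_map_of_mem _ hx))
    have h2 : (P : Subgroup G).subgroupOf K0 ≤ W := fun x hx =>
      mem_subgroupOf.mpr (le_sup_right (a := R.map K0.subtype) (hPN (mem_subgroupOf.mp hx)))
    obtain ⟨j, hj⟩ := hRidx
    have hd1 := hj ▸ index_dvd_of_le h1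
    obtain ⟨i, -, hi⟩ := (Nat.dvd_prime_pow Nat.prime_two).mp hd1
    rcases Nat.eq_zero_or_pos i with h0 | h0
    · rw [h0, pow_zero] at hi; exact index_eq_one.mp hi
    · exfalso
      have hd2 : W.index ∣ ((P : Subgroup G).subgroupOf K0).index := index_dvd_of_le h2
      have h2d : 2 ∣ ((P : Subgroup G).subgroupOf K0).index :=
        (hi ▸ dvd_pow_self 2 h0.ne').trans hd2
      refine P.not_dvd_index (h2d.trans ?_)
      show (P : Subgroup G).relIndex K0 ∣ _
      have e1 := relIndex_mul_relIndex ((P : Subgroup G) ⊓ K0) P ((P : Subgroup G) ⊔ K0) inf_le_left le_sup_left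
      have e2 := relIndex_mul_relIndex ((P : Subgroup G) ⊓ K0) K0 ((P : Subgroup G) ⊔ K0) inf_le_right le_sup_right
      rw [← e2, inf_relIndex_left, inf_relIndex_right, relIndex_sup_right, mul_comm ((P : Subgroup G).relIndex K0)] at e1
      rw [← Nat.eq_of_mul_eq_mul_left (Nat.pos_of_dvd_of_pos (relIndex_dvd_card _ _) Nat.card_pos) e1]
      exact relIndex_dvd_index_of_le le_sup_left

/-- A normal complement gives equality. -/
theorem eq_of_complement (K : Subgroup G) [K.Normal] (hK : K ⊓ normalizer ((P : Subgroup G) : Set G) = ⊥)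
    (hsup : K ⊔ normalizer ((P : Subgroup G) : Set G) = ⊤) :
    oddSum G ≤ oddSum (normalizer ((P : Subgroup G) : Set G)) := by
  classical
  set N := normalizer ((P : Subgroup G) : Set G) with hN
  have := Fintype.ofFinite N
  have := Fintype.ofFinite K
  have hc : K.IsComplement' N := isComplement'_of_disjoint_and_mul_eq_univ (disjoint_iff.mpr hK)
    (by rw [← normal_mul, hsup, coe_top])
  let e : K × N ≃ G := Equiv.ofBijective (fun x => (x.1 : G) * x.2) hc
  have hval : ∀ χ ∈ oddIrr G, ∀ (k : K) (n : N), (χ : G → ℂ) ((k : G) * n) = (χ : G → ℂ) n :=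
    fun χ hχ k n => TwoClassChar.ker_mul χ.2 (trivOn_of_fixed_trivial P K hK χ hχ k) n
  have hirr : ∀ χ ∈ oddIrr G, IsIrrCharacter N (fun n : N => (χ : G → ℂ) n) := by
    intro χ hχ
    rw [Char.isIrrCharacter_iff_norm_one (Char.IsCharacter.restrict (Char.IsIrrCharacter.isCharacter χ.2) N)]
    have h := Char.classInner_irr_self χ.2
    rw [classInner, ← e.sum_comp, Fintype.sum_prod_type] at h
    have h' : (Nat.card G : ℂ)⁻¹ * ∑ k : K, ∑ n : N,
        (χ : G → ℂ) ((k : G) * n) * conj ((χ : G → ℂ) ((k : G) * n)) = 1 := h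
    simp only [hval χ hχ, Finset.sum_const, Finset.card_univ, nsmul_eq_mul, ← Nat.card_eq_fintype_card] at h'
    rw [← h', classInner, ← hc.card_mul_card]
    push_cast
    field_simp
  let r : {χ // χ ∈ oddIrr G} → IrrCharacter N := fun χ => ⟨_, hirr χ.1 χ.2⟩
  have hr : Function.Injective r := by
    rintro ⟨χ, hχ⟩ ⟨χ', hχ'⟩ h
    refine Subtype.ext (Subtype.ext (funext fun g => ?_))
    obtain ⟨⟨k, n⟩, rfl⟩ := e.surjective g
    show (χ : G → ℂ) ((k : G) * n) = (χ' : G → ℂ) ((k : G) * n)
    rw [hval χ hχ, hval χ' hχ']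
    exact congrFun (congrArg Subtype.val h) n
  have hd : ∀ χ : {χ // χ ∈ oddIrr G}, deg (r χ : N → ℂ) = deg (χ.1 : G → ℂ) := fun χ => by
    simp [r, charDegree]
  have hsub : Finset.univ.image r ⊆ oddIrr N := by
    intro η hη
    obtain ⟨χ, -, rfl⟩ := Finset.mem_image.mp hη
    rw [mem_oddIrr, hd]
    exact mem_oddIrr.mp χ.2
  rw [oddSum, oddSum, ← Finset.sum_coe_sort]
  refine le_trans (le_of_eq ?_) (Finset.sum_le_sum_of_subset hsub)
  rw [Finset.sum_image fun a _ b _ h => hr h]
  exact Finset.sum_congr rfl fun χ _ => by rw [hd]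

end Cfsg.Agent.OddDegreeSum
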